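import Groth.Agent.SmoothReg3.Core
import Groth.Agent.SmoothLib.StalkCrit
import Mathlib.AlgebraicGeometry.Morphisms.ClosedImmersion

/-!
# A regularly immersed smooth subscheme sits in the smooth locus
-/

set_option autoImplicit false
set_option linter.style.haveILetI false
set_option backward.isDefEq.respectTransparency.types false

universe u

namespace Groth.Agent.SmoothReg3

open CategoryTheory CategoryTheory.Limits AlgebraicGeometry RingTheory.Sequence

variable {X S : Scheme.{u}} (f : X ⟶ S)

set_option maxHeartbeats 800000 in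
theorem formallySmooth_stalkMap_of_regular [LocallyOfFinitePresentation f] (x : X)
    (l : List (X.presheaf.stalk x)) (hl : ∀ a ∈ l, ¬ IsUnit a)
    (hreg : IsWeaklyRegular (X.presheaf.stalk x) l)
    {B : Type u} [CommRing B] (π : X.presheaf.stalk x →+* B) (hπ : Function.Surjective π)
    (hker : RingHom.ker π = Ideal.ofList l)
    (h : (π.comp (f.stalkMap x).hom).FormallySmooth) : (f.stalkMap x).hom.FormallySmooth := by
  classical
  obtain ⟨W, hW, V, hV, hxW, hxV, e⟩ := FlatLocal.exists_chart f x
  have hfp := f.finitePresentation_appLE hW hV e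
  rw [formallySmooth_stalkMap_iff W hW V hV e hxV]
  algebraize [(f.appLE W V e).hom]
  let q := (hV.primeIdealOf ⟨x, hxV⟩).asIdeal
  letI : Algebra Γ(X, V) (X.presheaf.stalk x) := (X.presheaf.germ V x hxV).hom.toAlgebra
  haveI : IsLocalization.AtPrime (X.presheaf.stalk x) q := hV.isLocalization_stalk ⟨x, hxV⟩
  letI : Algebra Γ(S, W) (X.presheaf.stalk x) := ((algebraMap Γ(X, V) (X.presheaf.stalk x)).comp (algebraMap Γ(S, W) Γ(X, V))).toAlgebra
  haveI : IsScalarTower Γ(S, W) Γ(X, V) (X.presheaf.stalk x) := .of_algebraMap_eq fun _ => rfl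
  let E : Localization.AtPrime q ≃ₐ[Γ(X, V)] X.presheaf.stalk x := IsLocalization.algEquiv q.primeCompl _ _
  letI : Algebra Γ(S, W) B := (π.comp (algebraMap Γ(S, W) (X.presheaf.stalk x))).toAlgebra
  have hB : Algebra.FormallySmooth Γ(S, W) B := by
    rw [← RingHom.formallySmooth_algebraMap]
    have e1 : algebraMap Γ(S, W) B = (π.comp (f.stalkMap x).hom).comp (S.presheaf.germ W (f x) hxW).hom := by
      ext a
      show π (X.presheaf.germ V x hxV (f.appLE W V e a)) = π (f.stalkMap x (S.presheaf.germ W (f x) hxW a))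
      rw [Scheme.Hom.germ_stalkMap_apply]
      simp only [Scheme.Hom.appLE, CommRingCat.hom_comp, RingHom.comp_apply, TopCat.Presheaf.germ_res_apply]
    rw [e1]
    refine RingHom.FormallySmooth.comp ?_ h
    letI : Algebra Γ(S, W) (S.presheaf.stalk (f x)) := (S.presheaf.germ W (f x) hxW).hom.toAlgebra
    haveI : IsLocalization.AtPrime (S.presheaf.stalk (f x)) (hW.primeIdealOf ⟨f x, hxW⟩).asIdeal :=
      hW.isLocalization_stalk ⟨f x, hxW⟩
    exact RingHom.formallySmooth_algebraMap.2
      (Algebra.FormallySmooth.of_isLocalization (hW.primeIdealOf ⟨f x, hxW⟩).asIdeal.primeCompl)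
  refine isSmoothAt_of_regular (R := Γ(S, W)) q (l.map E.symm) ?_ ?_ ?_
  · intro a ha
    obtain ⟨b, hb, rfl⟩ := List.mem_map.1 ha
    refine (IsLocalRing.mem_maximalIdeal _).2 fun hu => hl b hb ?_
    simpa using hu.map E
  · refine (AddEquiv.isWeaklyRegular_congr (e := E.toAddEquiv) (as := l.map E.symm) (bs := l) ?_).2 hreg
    rw [List.forall₂_map_left_iff]
    exact List.forall₂_same.2 fun a _ y => (map_mul E (E.symm a) y).trans (congrArg (· * E y) (E.apply_symm_apply a))
  · let φ : Localization.AtPrime q →ₐ[Γ(S, W)] B :=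
      { π.comp E.toRingEquiv.toRingHom with
        commutes' := fun r => congrArg π ((E.toAlgHom.restrictScalars Γ(S, W)).commutes r) }
    have hφ : Function.Surjective φ := hπ.comp E.surjective
    have hk : RingHom.ker φ = Ideal.ofList (l.map E.symm) := by
      show RingHom.ker (π.comp E.toRingEquiv.toRingHom) = _
      rw [← RingHom.comap_ker, hker, Ideal.ofList, Ideal.ofList]
      refine le_antisymm (fun z hz => ?_) (Ideal.span_le.2 ?_)
      · have h1 : Ideal.map E.symm.toRingEquiv.toRingHom (Ideal.ofList l) = Ideal.ofList (l.map E.symm) :=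
          Ideal.map_ofList _ _
        rw [show z = E.symm.toRingEquiv.toRingHom (E z) from (E.symm_apply_apply z).symm]
        exact h1.le (Ideal.mem_map_of_mem _ hz)
      · intro a ha
        obtain ⟨b, hb, rfl⟩ := List.mem_map.1 ha
        show E (E.symm b) ∈ Ideal.span {r | r ∈ l}
        rw [E.apply_symm_apply]; exact Ideal.subset_span hb
    exact .of_equiv ((Ideal.quotientEquivAlgOfEq Γ(S, W) hk.symm).trans (Ideal.quotientKerAlgEquivOfSurjective hφ)).symm

/-- The form for closed immersions. -/
theorem formallySmooth_stalkMap_of_immersion {Y : Scheme.{u}} [LocallyOfFinitePresentation f] (j : Y ⟶ X)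
    [IsClosedImmersion j] (y : Y) (l : List (X.presheaf.stalk (j y))) (hl : IsRegular (X.presheaf.stalk (j y)) l)
    (hker : RingHom.ker (j.stalkMap y).hom = Ideal.ofList l)
    (h : ((j ≫ f).stalkMap y).hom.FormallySmooth) : (f.stalkMap (j y)).hom.FormallySmooth := by
  refine formallySmooth_stalkMap_of_regular f (j y) l (fun a ha hu => ?_) hl.toIsWeaklyRegular (j.stalkMap y).hom
    (j.stalkMap_surjective y) hker ?_
  · exact RingHom.ker_ne_top (j.stalkMap y).hom
      (hker ▸ Ideal.eq_top_of_isUnit_mem _ (Ideal.subset_span ha) hu)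
  · rw [Scheme.Hom.stalkMap_comp] at h
    exact h

end Groth.Agent.SmoothReg3
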