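import Mathlib.RingTheory.Smooth.Local
import Mathlib.RingTheory.Smooth.Locus
import Mathlib.RingTheory.Etale.Kaehler
import Mathlib.RingTheory.Regular.Flat
import Mathlib.RingTheory.Localization.Ideal
import Mathlib.RingTheory.LocalRing.Module

/-!
# Smoothness descends along regular sequences (EGA IV 17.12.1, any base)
-/

set_option autoImplicit false

universe u

namespace Groth.Agent.SmoothReg3

open TensorProduct KaehlerDifferential IsLocalRing RingTheory.Sequence

section Inf

variable {T : Type u} [CommRing T]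

theorem inf_ofList_eq_mul : ∀ (l : List T) (J : Ideal T), IsWeaklyRegular (T ⧸ J) l →
    J ⊓ Ideal.ofList l ≤ J * Ideal.ofList l
  | [], J, _ => by simp
  | a :: l, J, h => by
    rw [isWeaklyRegular_cons_iff] at h
    obtain ⟨ha, hl⟩ := h
    let J' : Ideal T := J ⊔ Ideal.span {a}
    let q₁ : T →ₗ[T] T ⧸ J := Submodule.mkQ J
    let q : T →ₗ[T] QuotSMulTop a (T ⧸ J) := (Submodule.mkQ _).comp q₁
    have hq : Function.Surjective q := (Submodule.mkQ_surjective _).comp (Submodule.mkQ_surjective _)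
    have hker : LinearMap.ker q = J' := by
      ext x
      show Submodule.Quotient.mk (q₁ x) = (0 : QuotSMulTop a (T ⧸ J)) ↔ _
      rw [Submodule.Quotient.mk_eq_zero, Submodule.mem_smul_pointwise_iff_exists]
      constructor
      · rintro ⟨y, -, hy⟩
        obtain ⟨y, rfl⟩ := Submodule.mkQ_surjective _ y
        have : a * y - x ∈ J := (Submodule.Quotient.eq J).1 (hy : (Submodule.Quotient.mk (a * y) : T ⧸ J) = _)
        have h2 : x = -(a * y - x) + a * y := by ring
        rw [h2]
        exact Submodule.add_mem_sup (J.neg_mem this) (Ideal.mem_span_singleton'.2 ⟨y, mul_comm y a⟩)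
      · intro hx
        obtain ⟨j, hj, z, hz, rfl⟩ := Submodule.mem_sup.1 hx
        obtain ⟨y, rfl⟩ := Ideal.mem_span_singleton'.1 hz
        refine ⟨q₁ y, trivial, ?_⟩
        show (Submodule.Quotient.mk (a * y) : T ⧸ J) = Submodule.Quotient.mk (j + y * a)
        rw [Submodule.Quotient.eq]
        have : a * y - (j + y * a) = -j := by ring
        rw [this]; exact J.neg_mem hj
    have hl' : IsWeaklyRegular (T ⧸ J') l :=
      ((Submodule.quotEquivOfEq _ _ hker.symm).trans (q.quotKerEquivOfSurjective hq)).isWeaklyRegular_congr l |>.2 hl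
    have ih := inf_ofList_eq_mul l J' hl'
    intro x hx
    rw [Ideal.ofList_cons] at hx ⊢
    obtain ⟨hxJ, hx⟩ := Submodule.mem_inf.1 hx
    obtain ⟨c', hc', z, hz, rfl⟩ := Submodule.mem_sup.1 hx
    obtain ⟨c, rfl⟩ := Ideal.mem_span_singleton'.1 hc'
    have hzJ' : z ∈ J' := by
      have h2 : z = (c * a + z) + -(c * a) := by ring
      rw [h2]
      exact Submodule.add_mem_sup hxJ ((Ideal.span {a}).neg_mem (Ideal.mem_span_singleton'.2 ⟨c, rfl⟩))
    have hz2 := ih ⟨hzJ', hz⟩
    simp only [J', Ideal.sup_mul] at hz2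
    obtain ⟨u, hu, v, hv, rfl⟩ := Submodule.mem_sup.1 hz2
    obtain ⟨w, hw, rfl⟩ := Ideal.mem_span_singleton_mul.1 hv
    have hcw : c + w ∈ J := by
      rw [← Ideal.Quotient.eq_zero_iff_mem]
      refine ha ?_
      show a • (Ideal.Quotient.mk J (c + w)) = a • (0 : T ⧸ J)
      rw [smul_zero, Algebra.smul_def, Ideal.Quotient.algebraMap_eq, ← map_mul, Ideal.Quotient.eq_zero_iff_mem]
      have h2 : a * (c + w) = (c * a + (u + a * w)) - u := by ring
      rw [h2]
      exact J.sub_mem hxJ (Ideal.mul_le_left hu)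
    have h3 : c * a + (u + a * w) = u + (c + w) * a := by ring
    rw [h3, Ideal.mul_sup]
    exact add_mem (le_sup_right (a := J * Ideal.span {a}) hu)
      (le_sup_left (b := J * Ideal.ofList l) (Ideal.mul_mem_mul hcw (Ideal.mem_span_singleton_self a)))

/-- A module element dies in the fibre at a maximal ideal iff it lies in `m • ⊤`. -/
theorem one_tmul_eq_zero_iff {κ M : Type u} [CommRing κ] [Algebra T κ] [AddCommGroup M] [Module T M]
    (hκ : Function.Surjective (algebraMap T κ)) (x : M) :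
    (1 : κ) ⊗ₜ[T] x = 0 ↔ x ∈ RingHom.ker (algebraMap T κ) • (⊤ : Submodule T M) := by
  let m := LinearMap.ker (Algebra.linearMap T κ)
  let e₀ : (T ⧸ m) ≃ₗ[T] κ := (Algebra.linearMap T κ).quotKerEquivOfSurjective hκ
  let e : (T ⧸ m) ⊗[T] M ≃ₗ[T] κ ⊗[T] M := LinearEquiv.rTensor M e₀
  have he : e (Submodule.Quotient.mk 1 ⊗ₜ[T] x) = (1 : κ) ⊗ₜ[T] x :=
    congrArg (· ⊗ₜ[T] x) (map_one (algebraMap T κ))
  rw [← he, e.map_eq_zero_iff, ← (quotTensorEquivQuotSMul M m).map_eq_zero_iff]
  erw [quotTensorEquivQuotSMul_mk_tmul]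
  rw [one_smul, Submodule.Quotient.mk_eq_zero]
  rfl

end Inf

section Local

variable {R T : Type u} [CommRing R] [CommRing T] [Algebra R T] [IsLocalRing T]
  [Algebra.FormallySmooth R T] [Module.Free T Ω[T⁄R]] [Module.Finite T Ω[T⁄R]]

theorem formallySmooth_quotient_of_regular (J : Ideal T) (hJ : J.FG) (hJm : J ≤ maximalIdeal T) (l : List T)
    (hl : ∀ a ∈ l, a ∈ maximalIdeal T) (hreg : IsWeaklyRegular (T ⧸ J) l)
    (h : Algebra.FormallySmooth R (T ⧸ (J ⊔ Ideal.ofList l))) : Algebra.FormallySmooth R (T ⧸ J) := by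
  classical
  let F := Ideal.ofList l
  let K := J ⊔ F
  have hF : F ≤ maximalIdeal T := Ideal.span_le.2 hl
  have hKm : K ≤ maximalIdeal T := sup_le hJm hF
  have hKfg : K.FG := Submodule.FG.sup hJ ⟨l.toFinset, congrArg Ideal.span (by simp)⟩
  let κ := ResidueField T
  have hκ : Function.Surjective (algebraMap T κ) := residue_surjective
  have setup : ∀ (I : Ideal T), I ≤ maximalIdeal T → I.FG →
      (Algebra.FormallySmooth R (T ⧸ I) ↔
        ∀ x ∈ I, (1 : κ) ⊗ₜ[T] D R T x = 0 → x ∈ maximalIdeal T * I) := by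
    intro I hI hIfg
    have : Nontrivial (T ⧸ I) := Ideal.Quotient.nontrivial_iff.2 fun e => (maximalIdeal.isMaximal T).ne_top (top_unique (e ▸ hI))
    have : IsLocalRing (T ⧸ I) := .of_surjective' (Ideal.Quotient.mk I) Ideal.Quotient.mk_surjective
    let : Algebra (T ⧸ I) κ := (Ideal.Quotient.factor hI).toAlgebra
    have : IsScalarTower T (T ⧸ I) κ := .of_algebraMap_eq fun _ => rfl
    have h₂ : (RingHom.ker (algebraMap T (T ⧸ I))).FG := by
      rw [Ideal.Quotient.algebraMap_eq, Ideal.mk_ker]; exact hIfg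
    have h₃ : maximalIdeal (T ⧸ I) ≤ RingHom.ker (algebraMap (T ⧸ I) κ) := by
      intro x hx
      obtain ⟨x, rfl⟩ := Ideal.Quotient.mk_surjective x
      rw [RingHom.mem_ker]
      exact Ideal.Quotient.eq_zero_iff_mem.2 ((mem_maximalIdeal _).2 fun hu => hx (hu.map _))
    rw [Algebra.FormallySmooth.iff_injective_cotangentComplexBaseChange T κ Ideal.Quotient.mk_surjective h₂ h₃]
    let I' : Ideal T := RingHom.ker (algebraMap T (T ⧸ I))
    have hI' : I' = I := Ideal.mk_ker
    have hzero : ∀ i : I', (1 : κ) ⊗ₜ[T] i = 0 ↔ (i : T) ∈ maximalIdeal T * I := by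
      intro i
      rw [one_tmul_eq_zero_iff hκ, Submodule.mem_smul_top_iff, smul_eq_mul]
      exact iff_of_eq (congrArg₂ (fun A B : Ideal T => (i : T) ∈ A * B) (ker_residue (R := T)) hI')
    have himg : ∀ i : I', cotangentComplexBaseChange R (T ⧸ I) T κ ((1 : κ) ⊗ₜ[T] i) =
        (1 : κ) ⊗ₜ[T] D R T i := by
      intro i
      rw [cotangentComplexBaseChange_tmul, one_smul]
      rfl
    constructor
    · intro hinj x hx hD
      exact (hzero ⟨x, hI'.ge hx⟩).1 (hinj (by rw [himg, map_zero]; exact hD))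
    · intro hcrit
      rw [injective_iff_map_eq_zero]
      intro z hz
      obtain ⟨i, rfl⟩ := TensorProduct.mk_surjective (R := T) (M := I') (S := κ) hκ z
      simp only [TensorProduct.mk_apply] at hz ⊢
      rw [himg] at hz
      exact (hzero i).2 (hcrit i (hI'.le i.2) hz)
  rw [setup J hJm hJ]
  intro x hx hD
  have hK := (setup K hKm hKfg).1 h x (Submodule.mem_sup_left hx) hD
  simp only [K, Ideal.mul_sup] at hK
  obtain ⟨y, hy, z, hz, rfl⟩ := Submodule.mem_sup.1 hK
  have hzJ : z ∈ J := by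
    have h2 : z = (y + z) - y := by ring
    rw [h2]; exact J.sub_mem hx (Ideal.mul_le_right hy)
  have hz2 := inf_ofList_eq_mul l J hreg ⟨hzJ, Ideal.mul_le_right hz⟩
  refine add_mem hy (?_ : z ∈ maximalIdeal T * J)
  rw [mul_comm]
  exact Ideal.mul_mono_right hF hz2

end Local

section AtPrime

variable {R A : Type u} [CommRing R] [CommRing A] [Algebra R A] [Algebra.FinitePresentation R A]

set_option maxHeartbeats 800000 in
/-- If a quotient of a local ring of a finitely presented algebra by a regular sequence is formally smooth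
over the base, then so is the local ring. -/
theorem isSmoothAt_of_regular (q : Ideal A) [q.IsPrime] (l : List (Localization.AtPrime q))
    (hl : ∀ a ∈ l, a ∈ maximalIdeal (Localization.AtPrime q))
    (hreg : IsWeaklyRegular (Localization.AtPrime q) l)
    (h : Algebra.FormallySmooth R (Localization.AtPrime q ⧸ Ideal.ofList l)) : Algebra.IsSmoothAt R q := by
  obtain ⟨n, π, hπ, hfg⟩ := ‹Algebra.FinitePresentation R A›.out
  let P := MvPolynomial (Fin n) R
  let J₀ : Ideal P := RingHom.ker π.toRingHom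
  let q₀ : Ideal P := q.comap π.toRingHom
  let T := Localization.AtPrime q₀
  have : Algebra.FormallyEtale P T := .of_isLocalization q₀.primeCompl
  have : Algebra.FormallySmooth R T := .comp R P T
  have : Module.Free T Ω[T⁄R] :=
    .of_equiv (tensorKaehlerEquivOfFormallyEtale R P T)
  have : Module.Finite T Ω[T⁄R] :=
    .equiv (tensorKaehlerEquivOfFormallyEtale R P T)
  let J : Ideal T := J₀.map (algebraMap P T)
  have hJfg : J.FG := hfg.map _
  have hJ₀ : J₀ ≤ q₀ := fun x hx => by
    show π x ∈ q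
    rw [show π x = 0 from hx]; exact q.zero_mem
  have hJm : J ≤ maximalIdeal T := by
    rw [← Localization.AtPrime.map_eq_maximalIdeal]; exact Ideal.map_mono hJ₀
  -- `T ⧸ J` is the local ring of `A` at `q`
  let e₁ : (P ⧸ J₀) ≃ₐ[R] A := Ideal.quotientKerAlgEquivOfSurjective hπ
  have hM : (Algebra.algebraMapSubmonoid (P ⧸ J₀) q₀.primeCompl).map e₁.toRingEquiv.toMonoidHom = q.primeCompl := by
    ext a
    constructor
    · rintro ⟨_, ⟨p, hp, rfl⟩, rfl⟩
      exact hp
    · intro ha
      obtain ⟨p, rfl⟩ := hπ a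
      exact ⟨_, ⟨p, ha, rfl⟩, rfl⟩
  let E : (T ⧸ J) ≃+* Localization.AtPrime q :=
    IsLocalization.ringEquivOfRingEquiv (T ⧸ J) (Localization.AtPrime q) e₁.toRingEquiv hM
  have hst : ∀ r : R, algebraMap R (T ⧸ J) r = algebraMap (P ⧸ J₀) (T ⧸ J) (algebraMap R (P ⧸ J₀) r) := fun r => by
    show Ideal.Quotient.mk J (algebraMap R T r) = Ideal.Quotient.mk J (algebraMap P T (algebraMap R P r))
    rw [← IsScalarTower.algebraMap_apply]
  have hE : ∀ r : R, E (algebraMap R (T ⧸ J) r) = algebraMap R (Localization.AtPrime q) r := by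
    intro r
    rw [hst, IsScalarTower.algebraMap_apply R A (Localization.AtPrime q),
      IsLocalization.ringEquivOfRingEquiv_eq]
    exact congrArg _ (e₁.commutes r)
  let E' : (T ⧸ J) ≃ₐ[R] Localization.AtPrime q := AlgEquiv.ofRingEquiv (f := E) hE
  obtain ⟨l', hl'⟩ : ∃ l' : List T, l'.map (fun t => E' (Ideal.Quotient.mk J t)) = l := by
    refine ⟨l.map (Function.surjInv (E'.surjective.comp Ideal.Quotient.mk_surjective)), ?_⟩
    rw [List.map_map]
    exact (List.map_congr_left fun a _ => Function.surjInv_eq (E'.surjective.comp Ideal.Quotient.mk_surjective) a).trans (List.map_id _)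
  have hl'm : ∀ a ∈ l', a ∈ maximalIdeal T := fun a ha => (mem_maximalIdeal _).2 fun hu =>
    hl _ (hl' ▸ List.mem_map_of_mem ha) ((hu.map (Ideal.Quotient.mk J)).map E')
  have hreg' : IsWeaklyRegular (T ⧸ J) l' := by
    refine (AddEquiv.isWeaklyRegular_congr (e := E'.toAddEquiv) (as := l') (bs := l) ?_).2 hreg
    rw [← hl', List.forall₂_map_right_iff]
    exact List.forall₂_same.2 fun t _ x => map_mul E' (Ideal.Quotient.mk J t) x
  have hquot : Algebra.FormallySmooth R (T ⧸ (J ⊔ Ideal.ofList l')) := by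
    have himage : Ideal.map (E' : (T ⧸ J) →+* Localization.AtPrime q)
        (Ideal.map (Ideal.Quotient.mk J) (Ideal.ofList l')) = Ideal.ofList l := by
      rw [Ideal.map_map, Ideal.map_ofList, ← hl']
      rfl
    let e₃ : (T ⧸ (J ⊔ Ideal.ofList l')) ≃+* Localization.AtPrime q ⧸ Ideal.ofList l :=
      (DoubleQuot.quotQuotEquivQuotSup J (Ideal.ofList l')).symm.trans
        (Ideal.quotientEquiv _ _ E'.toRingEquiv himage.symm)
    let e₂ : (T ⧸ (J ⊔ Ideal.ofList l')) ≃ₐ[R] Localization.AtPrime q ⧸ Ideal.ofList l :=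
      AlgEquiv.ofRingEquiv (f := e₃) fun r => congrArg (Ideal.Quotient.mk (Ideal.ofList l)) (hE r)
    exact .of_equiv e₂.symm
  have := formallySmooth_quotient_of_regular J hJfg hJm l' hl'm hreg' hquot
  exact Algebra.FormallySmooth.of_equiv (A := T ⧸ J) E'

end AtPrime

end Groth.Agent.SmoothReg3
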